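import Mathlib
import Groth.Prelude.Def_DerSch
import Groth.Prelude.Def_DCoh3
import Groth.Agent.Lib.Helper5.DerSchTor.Restrict
import Groth.Agent.Lib.Helper5.TensorAmp.TensorAmpB
import Groth.Agent.Lib.Helper5.RelPC.FlatTerms
import Groth.Agent.Lib.Helper5.RelPC.FlatSingle
import Groth.Agent.Lib.Helper5.KFlatSite2.BddCell
import Groth.Agent.Lib.Helper5.KFlatSite2.CokerFlat
import Groth.Agent.Lib.Helper5.TorAmp.Char
import Groth.Agent.Lib.Helper5.TorAmp.FlatLin
import Groth.Agent.Lib.Helper5.TorAmp.FlatTrunc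

/-!
# Relative tor amplitude: stalkwise form versus representatives with terms flat over the base
(helper5)
-/
set_option autoImplicit false
set_option linter.unusedSectionVars false
set_option linter.unusedVariables false
set_option linter.style.haveILetI false
universe u
open CategoryTheory CategoryTheory.Limits MonoidalCategory AlgebraicGeometry
attribute [local instance] HasDerivedCategory.standard

namespace Groth.Agent.Lib.Helper5.RelTor

open Groth.Agent.Lib.Helper5.StalkTot Groth.Agent.Lib.Helper5.StalkAdj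
open Groth.Agent.Helper5.TorAmp Groth.Agent.Lib.Helper5.TensorAmp
open Groth.Agent.Lib.Helper5.DerSchTor Groth.Agent.Lib.Helper5.KFlatSiteQ
open Groth.Agent.Helper5.FlatAcyc Groth.Agent.Lib.Helper5.FlatSingle
open Groth.Agent.Lib.Helper5.FlatTerms
open DTen

variable {X Y : Scheme.{u}}

/-- ring level: tor amplitude gives exactness outside the interval -/
theorem exactAt_of_hasTorAmplitudeIn {R : Type u} [CommRing R] (P : DRing.Cx R) (a b : ℤ)
    (h : DRing.HasTorAmplitudeIn R a b (DRing.toD P)) (i : ℤ) (hi : i < a ∨ b < i) :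
    P.ExactAt i := by
  obtain ⟨E, h1, h2, ⟨e⟩⟩ := h
  rw [HomologicalComplex.exactAt_iff_isZero_homology]
  refine IsZero.of_iso ?_ ((DerivedCategory.homologyFunctorFactors _ i).app P).symm
  refine IsZero.of_iso ?_ ((DerivedCategory.homologyFunctor _ i).mapIso e.symm)
  refine IsZero.of_iso ?_ ((DerivedCategory.homologyFunctorFactors _ i).app E)
  exact (HomologicalComplex.exactAt_iff_isZero_homology _ _).1
    (HomologicalComplex.ExactAt.of_isZero (h1 i hi))

/-- stalkwise tor amplitude relative to `g` gives exactness outside the interval -/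
theorem exactAt_of_hasTorAmplitude (g : X ⟶ Y) (L : CochainComplex X.Modules ℤ) (a b : ℤ)
    (h : ∀ x : X, DerSch.HasTorAmplitudeAt g a b L x) (i : ℤ) (hi : i < a ∨ b < i) :
    L.ExactAt i := by
  apply exactAt_of_stalks
  intro x
  apply exactAt_of_resCx (g.stalkMap x).hom
  exact exactAt_of_hasTorAmplitudeIn _ a b ((hasTorAmplitudeAt_iff g x L a b).1 (h x)) i hi

/-- flat modules on the source of a flat morphism are flat over the base -/
theorem isFlatOver_of_isFlat (g : X ⟶ Y) [Flat g] (M : X.Modules) (hM : FlatMod.IsFlat M) :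
    FlatMod.IsFlatOver g M := by
  intro x
  have h1 : Module.Flat (X.presheaf.stalk x) (M.presheaf.stalk x) := hM x
  unfold FlatMod.IsFlatOverAt
  letI := FlatMod.moduleStalkOver g M x
  letI := (g.stalkMap x).hom.toAlgebra
  haveI : IsScalarTower (Y.presheaf.stalk (g x)) (X.presheaf.stalk x) (M.presheaf.stalk x) :=
    IsScalarTower.of_algebraMap_smul (fun r m => rfl)
  haveI : Module.Flat (Y.presheaf.stalk (g x)) (X.presheaf.stalk x) := Flat.stalkMap g x
  exact Module.Flat.trans _ (X.presheaf.stalk x) _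

/-- the first term of a short exact sequence of modules whose other terms are flat over the
base is flat over the base -/
theorem isFlatOver_X₁ (g : X ⟶ Y) (S : ShortComplex X.Modules) (hS : S.ShortExact)
    (h₂ : FlatMod.IsFlatOver g S.X₂) (h₃ : FlatMod.IsFlatOver g S.X₃) :
    FlatMod.IsFlatOver g S.X₁ := by
  intro x
  haveI : PreservesFiniteLimits (DerSch.stalkFunctor X x) :=
    preservesFiniteLimits_of_natIso (stalkFunctorIso X x).symm
  haveI : PreservesFiniteColimits (DerSch.stalkFunctor X x) :=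
    preservesFiniteColimits_of_natIso (stalkFunctorIso X x).symm
  have hS' : (S.map (DerSch.stalkOver g x)).ShortExact := hS.map_of_exact (DerSch.stalkOver g x)
  haveI : Module.Flat (Y.presheaf.stalk (g.base x)) (S.map (DerSch.stalkOver g x)).X₂ := h₂ x
  haveI : Module.Flat (Y.presheaf.stalk (g.base x)) (S.map (DerSch.stalkOver g x)).X₃ := h₃ x
  have := flat_X₁ (S.map (DerSch.stalkOver g x)) hS'
  exact this

/-- the cokernel `P^a / im d` of a bounded above complex with terms flat over the base and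
stalkwise tor amplitude in `[a, b]` is flat over the base -/
theorem isFlatOver_opcycles (g : X ⟶ Y) (P : CochainComplex X.Modules ℤ)
    (hfl : ∀ i, FlatMod.IsFlatOver g (P.X i)) (c : ℤ) (hc : ∀ i, c < i → IsZero (P.X i))
    (a b : ℤ) (h : ∀ x : X, DerSch.HasTorAmplitudeAt g a b P x) :
    FlatMod.IsFlatOver g (P.opcycles a) := by
  intro x
  haveI : PreservesFiniteLimits (DerSch.stalkFunctor X x) :=
    preservesFiniteLimits_of_natIso (stalkFunctorIso X x).symm
  haveI : PreservesFiniteColimits (DerSch.stalkFunctor X x) :=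
    preservesFiniteColimits_of_natIso (stalkFunctorIso X x).symm
  have hflat : DRing.TermwiseFlat ((DerSch.stalkCxOver g x).obj P) := fun i => hfl i x
  have hcx : DRing.VanishesAbove ((DerSch.stalkCxOver g x).obj P) c := fun i hi =>
    Functor.map_isZero (DerSch.stalkOver g x) (hc i hi)
  have hTV : TorVan a b ((DerSch.stalkCxOver g x).obj P) :=
    (hasTorAmplitudeIn_iff ((DerSch.stalkCxOver g x).obj P) hflat c hcx a b).1 (h x)
  haveI h1 : Module.Flat (Y.presheaf.stalk (g.base x))
      (((DerSch.stalkCxOver g x).obj P).opcycles a) :=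
    flat_opcycles ((DerSch.stalkCxOver g x).obj P) hflat a
      (hTV.exactAt _ (Or.inl (by omega))) (fun I => hTV _ _ (Or.inl (by omega)))
  have e : ((DerSch.stalkCxOver g x).obj P).opcycles a ≅
      (DerSch.stalkOver g x).obj (P.opcycles a) := (P.sc a).mapOpcyclesIso (DerSch.stalkOver g x)
  have : Module.Flat (Y.presheaf.stalk (g.base x))
      ((DerSch.stalkOver g x).obj (P.opcycles a)) :=
    Module.Flat.of_linearEquiv e.symm.toLinearEquiv
  exact this

/-- **stalkwise tor amplitude relative to a flat morphism gives a representative with terms flat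
over the base** -/
theorem hasRelFlatAmplitudeIn_of_stalks (g : X ⟶ Y) [Flat g] (F : CochainComplex X.Modules ℤ)
    (a b : ℤ) (h : ∀ x : X, DerSch.HasTorAmplitudeAt g a b F x) :
    DCoh.HasRelFlatAmplitudeIn g a b (DerivedCategory.Q.obj F) := by
  haveI hFle : F.IsLE b := by
    rw [CochainComplex.isLE_iff]
    intro i hi
    exact exactAt_of_hasTorAmplitude g F a b h i (Or.inr hi)
  obtain ⟨K, q, hcell, hq, hKb⟩ : ∃ (K : CochainComplex X.Modules ℤ) (q : K ⟶ F.truncLE b),
      Cell X.sheaf K ∧ QuasiIso q ∧ ∀ p, b + 1 < p → IsZero (K.X p) :=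
    exists_bdd_cell_resolution X.sheaf (F.truncLE b) b
      (fun p hp => (F.truncLE b).isZero_of_isStrictlyLE b p hp)
  obtain ⟨hKf, hKfl⟩ := hcell.isKFlat
  haveI : IsIso (DerivedCategory.Q.map q) := (DerivedCategory.isIso_Q_map_iff_quasiIso _ q).2 hq
  haveI : IsIso (DerivedCategory.Q.map (F.ιTruncLE b)) := by
    rw [DerivedCategory.isIso_Q_map_iff_quasiIso]; infer_instance
  have eK : DCoh.toD X K ≅ DCoh.toD X F :=
    asIso (DerivedCategory.Q.map q) ≪≫ asIso (DerivedCategory.Q.map (F.ιTruncLE b))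
  have hK : ∀ x : X, DerSch.HasTorAmplitudeAt g a b K x := fun x =>
    hasTorAmplitudeAt_of_iso g x eK.symm a b (h x)
  have hKflY : ∀ i, FlatMod.IsFlatOver g (K.X i) := fun i =>
    isFlatOver_of_isFlat g _ (Groth.Agent.Lib.Helper5.Pure.flatMod_of_isFlat _ (hKfl i))
  haveI hKle : K.IsLE b := by
    rw [CochainComplex.isLE_iff]
    intro i hi
    exact exactAt_of_hasTorAmplitude g K a b hK i (Or.inr hi)
  have hepi : Epi (K.d b (b + 1)) := by
    have h1 := exactAt_of_hasTorAmplitude g K a b hK (b + 1) (Or.inr (by omega))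
    rw [HomologicalComplex.exactAt_iff' K b (b + 1) (b + 2) (by simp) (by simp; omega)] at h1
    exact (ShortComplex.exact_iff_epi _ ((hKb (b + 2) (by omega)).eq_of_tgt _ _)).1 h1
  have hcyc : FlatMod.IsFlatOver g (K.cycles b) := by
    have hS : (ShortComplex.mk (K.iCycles b) (K.d b (b + 1)) (by simp)).ShortExact :=
      ShortComplex.ShortExact.mk'
        (ShortComplex.exact_of_f_is_kernel _ (K.cyclesIsKernel b (b + 1) (by simp)))
        inferInstance hepi
    exact isFlatOver_X₁ g _ hS (hKflY b) (hKflY (b + 1))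
  have hP₁fl : ∀ i, FlatMod.IsFlatOver g ((K.truncLE b).X i) := by
    intro i
    rcases lt_trichotomy i b with hi | hi | hi
    · exact isFlatOver_of_iso g (K.truncLEXIso b i hi).symm (hKflY i)
    · rw [hi]
      exact isFlatOver_of_iso g (K.truncLEXIsoCycles b).symm hcyc
    · exact isFlatOver_of_isZero g ((K.truncLE b).isZero_of_isStrictlyLE b i hi)
  haveI : IsIso (DerivedCategory.Q.map (K.ιTruncLE b)) := by
    rw [DerivedCategory.isIso_Q_map_iff_quasiIso]; infer_instance
  have e₁ : DCoh.toD X (K.truncLE b) ≅ DCoh.toD X F :=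
    asIso (DerivedCategory.Q.map (K.ιTruncLE b)) ≪≫ eK
  have hP₁ : ∀ x : X, DerSch.HasTorAmplitudeAt g a b (K.truncLE b) x := fun x =>
    hasTorAmplitudeAt_of_iso g x e₁.symm a b (h x)
  haveI hP₁ge : (K.truncLE b).IsGE a := by
    rw [CochainComplex.isGE_iff]
    intro i hi
    exact exactAt_of_hasTorAmplitude g _ a b hP₁ i (Or.inl hi)
  have hop : FlatMod.IsFlatOver g ((K.truncLE b).opcycles a) :=
    isFlatOver_opcycles g (K.truncLE b) hP₁fl b
      (fun i hi => (K.truncLE b).isZero_of_isStrictlyLE b i hi) a b hP₁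
  have hP₂fl : ∀ i, FlatMod.IsFlatOver g (((K.truncLE b).truncGE a).X i) := by
    intro i
    rcases lt_trichotomy i a with hi | hi | hi
    · exact isFlatOver_of_isZero g (((K.truncLE b).truncGE a).isZero_of_isStrictlyGE a i hi)
    · rw [hi]
      exact isFlatOver_of_iso g ((K.truncLE b).truncGEXIsoOpcycles a).symm hop
    · exact isFlatOver_of_iso g ((K.truncLE b).truncGEXIso a i hi).symm (hP₁fl i)
  haveI : IsIso (DerivedCategory.Q.map ((K.truncLE b).πTruncGE a)) := by
    rw [DerivedCategory.isIso_Q_map_iff_quasiIso]; infer_instance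
  have e₂ : DCoh.toD X ((K.truncLE b).truncGE a) ≅ DCoh.toD X F :=
    (asIso (DerivedCategory.Q.map ((K.truncLE b).πTruncGE a))).symm ≪≫ e₁
  refine ⟨(K.truncLE b).truncGE a, ?_, hP₂fl, ⟨e₂⟩⟩
  rintro i (hi | hi)
  · exact ((K.truncLE b).truncGE a).isZero_of_isStrictlyGE a i hi
  · rcases lt_trichotomy i a with h1 | h1 | h1
    · exact ((K.truncLE b).truncGE a).isZero_of_isStrictlyGE a i h1
    · rw [h1]
      refine IsZero.of_iso ?_ ((K.truncLE b).truncGEXIsoOpcycles a)
      have hz : IsZero ((K.truncLE b).X a) :=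
        (K.truncLE b).isZero_of_isStrictlyLE b a (by omega)
      rw [IsZero.iff_id_eq_zero, ← cancel_epi ((K.truncLE b).pOpcycles a)]
      exact hz.eq_of_src _ _
    · exact IsZero.of_iso ((K.truncLE b).isZero_of_isStrictlyLE b i hi)
        ((K.truncLE b).truncGEXIso a i h1)

/-- converse of `hasTorAmplitudeAt_restrict` -/
theorem hasTorAmplitudeAt_of_restrict (f : X ⟶ Y) (U : X.Opens) (x' : (U : Scheme.{u}))
    (F : CochainComplex X.Modules ℤ) (a b : ℤ)
    (hF : DerSch.HasTorAmplitudeAt (U.ι ≫ f) a b ((DCoh.restrictCx U).obj F) x') :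
    DerSch.HasTorAmplitudeAt f a b F (U.ι.base x') := by
  rw [hasTorAmplitudeAt_iff] at hF ⊢
  have hbij : Function.Bijective (U.ι.stalkMap x').hom :=
    (ConcreteCategory.isIso_iff_bijective _).1 inferInstance
  haveI := isIso_unitCx_of_bijective (U.ι.stalkMap x').hom hbij (stalkCx X (U.ι.base x') F)
  have e1 : (resCx (U.ι.stalkMap x').hom).obj
      (stalkCx (U : Scheme.{u}) x' ((DCoh.restrictCx U).obj F)) ≅ stalkCx X (U.ι.base x') F :=
    (resCx (U.ι.stalkMap x').hom).mapIso (stalkCxRestrictIso U x' F) ≪≫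
      (asIso ((unitCx (U.ι.stalkMap x').hom).app (stalkCx X (U.ι.base x') F))).symm
  have e2 := resCompIso U.ι f x' (stalkCx (U : Scheme.{u}) x' ((DCoh.restrictCx U).obj F)) ≪≫
    (resCx (f.stalkMap (U.ι.base x')).hom).mapIso e1
  exact hasTorAmplitudeIn_of_iso (DerivedCategory.Q.mapIso e2) hF

/-- **the bridge**: for a flat morphism, locally finite tor dimension relative to the base in the
representative form is the stalkwise condition on any representing complex -/
theorem locHasFiniteRelTorDim_iff (f : X ⟶ Y) [Flat f] (K : DCoh.D X)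
    (F : CochainComplex X.Modules ℤ) (e : DCoh.toD X F ≅ K) :
    DCoh.LocHasFiniteRelTorDim f K ↔ DerSch.LocFiniteTorAmplitude f F := by
  constructor
  · intro h x
    obtain ⟨V, a, b, hxV, hV⟩ := h x
    refine ⟨V, a, b, hxV, fun x' hx' => ?_⟩
    obtain ⟨E, hEab, hEfl, ⟨eE⟩⟩ := hV F ⟨e⟩
    have h1 := hasTorAmplitude_of_flat_terms (V.ι ≫ f) E a b hEab hEfl ⟨x', hx'⟩
    have h2 := hasTorAmplitudeAt_of_iso (V.ι ≫ f) ⟨x', hx'⟩ eE a b h1
    exact hasTorAmplitudeAt_of_restrict f V ⟨x', hx'⟩ F a b h2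
  · intro h x
    obtain ⟨V, a, b, hxV, hV⟩ := h x
    refine ⟨V, a, b, hxV, fun F' ⟨eF'⟩ => ?_⟩
    apply hasRelFlatAmplitudeIn_of_stalks (V.ι ≫ f)
    intro x'
    apply hasTorAmplitudeAt_restrict f V x' F' a b
    exact hasTorAmplitudeAt_of_iso f _ (e ≪≫ eF'.symm) a b (hV (V.ι.base x') x'.2)

end Groth.Agent.Lib.Helper5.RelTor
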