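import Mathlib
import Groth.Prelude.Def_DualSh
import Groth.Agent.Lib.Helper5.RelTor.Basic
import Groth.Agent.Lib.Helper5.TorAmp.Biprod
import Groth.Agent.Lib.Helper5.TorAmp.Dev
import Groth.Agent.Lib.Helper5.TorAmp.FinTor
import Groth.Agent.Lib.Helper5.TorAmp.TorDim
import Groth.Agent.Lib.Helper5.TorAmp.Tri
import Groth.Agent.Lib.Helper5.Perf.PCBiprod
import Groth.Agent.Lib.Helper5.Perf.PCTri
import Groth.Agent.Lib.Helper5.Perf.ClPushA
import Groth.Agent.Lib.Helper5.DerSchTor.SpecTor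
import Groth.Agent.Lib.Helper5.TildePC.Main
import Groth.Agent.Lib.Helper5.DRing.PCAll

/-!
# Relatively perfect objects form a saturated triangulated subcategory (helper5)
-/
set_option autoImplicit false
set_option linter.unusedSectionVars false
set_option linter.unusedVariables false
set_option linter.style.haveILetI false
universe u
open CategoryTheory CategoryTheory.Limits MonoidalCategory AlgebraicGeometry Pretriangulated ZeroObject
attribute [local instance] HasDerivedCategory.standard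

namespace Groth.Agent.Lib.Helper5.RelTor

open Groth.Agent.Lib.Helper5.StalkTot Groth.Agent.Lib.Helper5.StalkAdj
open Groth.Agent.Helper5.TorAmp Groth.Agent.Lib.Helper5.TensorAmp
open Groth.Agent.Lib.Helper5.DerSchTor
open Groth.Agent.Lib.Helper5.PCTri Groth.Agent.Lib.Helper5.PCBiprod
open DTen

attribute [local instance] preservesBinaryBiproducts_of_preservesBiproducts

variable {X Y : Scheme.{u}} (f : X ⟶ Y)

/-- the derived functor of "stalk at `x`, as a complex over the local ring of the base" -/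
noncomputable abbrev stalkD (x : X) : DCoh.D X ⥤ Dual.D (Y.presheaf.stalk (f.base x)) :=
  (stalkSh X x).mapDerivedCategory ⋙ DRing.restrictD (f.stalkMap x).hom

/-- it is computed termwise -/
noncomputable def stalkDObjIso (x : X) (F : CochainComplex X.Modules ℤ) :
    (stalkD f x).obj (DCoh.toD X F) ≅
      DRing.toD ((resCx (f.stalkMap x).hom).obj (stalkCx X x F)) :=
  (DRing.restrictD (f.stalkMap x).hom).mapIso
      ((stalkSh X x).mapDerivedCategoryFactors.app F) ≪≫
    (resFactors (f.stalkMap x).hom).app (stalkCx X x F)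

/-- tor amplitude at a point, derived form -/
def TorAtD (a b : ℤ) (K : DCoh.D X) (x : X) : Prop :=
  DRing.HasTorAmplitudeIn (Y.presheaf.stalk (f.base x)) a b ((stalkD f x).obj K)

theorem torAtD_iff (a b : ℤ) (F : CochainComplex X.Modules ℤ) (K : DCoh.D X)
    (e : DCoh.toD X F ≅ K) (x : X) :
    TorAtD f a b K x ↔ DerSch.HasTorAmplitudeAt f a b F x := by
  rw [hasTorAmplitudeAt_iff]
  have i := (stalkD f x).mapIso e.symm ≪≫ stalkDObjIso f x F
  exact ⟨fun h => hasTorAmplitudeIn_of_iso i h, fun h => hasTorAmplitudeIn_of_iso i.symm h⟩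

variable {f}

theorem torAtD_of_iso {a b : ℤ} {K L : DCoh.D X} (e : K ≅ L) {x : X} (h : TorAtD f a b K x) :
    TorAtD f a b L x :=
  hasTorAmplitudeIn_of_iso ((stalkD f x).mapIso e) h

theorem torAtD_mono {a b a' b' : ℤ} {K : DCoh.D X} {x : X} (h : TorAtD f a b K x)
    (ha : a' ≤ a) (hb : b ≤ b') : TorAtD f a' b' K x :=
  hasTorAmplitudeIn_mono h ha hb

theorem torAtD_of_isZero {K : DCoh.D X} (hK : IsZero K) (a b : ℤ) (x : X) : TorAtD f a b K x :=
  hasTorAmplitudeIn_of_isZero ((stalkD f x).map_isZero hK) a b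

theorem torAtD_shift {a b : ℤ} {K : DCoh.D X} {x : X} (h : TorAtD f a b K x) (n : ℤ) :
    TorAtD f (a - n) (b - n) (K⟦n⟧) x :=
  hasTorAmplitudeIn_of_iso (((stalkD f x).commShiftIso n).app K).symm
    (hasTorAmplitudeIn_shift h n _ _ (by omega) (by omega))

theorem torAtD_ext {a b : ℤ} (T : Triangle (DCoh.D X)) (hT : T ∈ distTriang _) {x : X}
    (h1 : TorAtD f a b T.obj₁ x) (h3 : TorAtD f a b T.obj₃ x) : TorAtD f a b T.obj₂ x :=
  hasTorAmplitudeIn_ext a b _ ((stalkD f x).map_distinguished _ hT) h1 h3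

theorem torAtD_of_biprod {a b : ℤ} (K L : DCoh.D X) {x : X} (h : TorAtD f a b (K ⊞ L) x) :
    TorAtD f a b K x :=
  (hasTorAmplitudeIn_of_biprod a b _ _
    (hasTorAmplitudeIn_of_iso ((stalkD f x).mapBiprod K L) h)).1

variable (f)

/-- locally finite tor amplitude relative to `f`, derived stalkwise form -/
def LocTorD (K : DCoh.D X) : Prop :=
  ∀ x : X, ∃ (V : X.Opens) (a b : ℤ), x ∈ V ∧ ∀ x' : X, x' ∈ V → TorAtD f a b K x'

theorem locTorD_iff [Flat f] (K : DCoh.D X) : DCoh.LocHasFiniteRelTorDim f K ↔ LocTorD f K := by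
  let F₀ : CochainComplex X.Modules ℤ := DerivedCategory.Q.objPreimage K
  have e₀ : DCoh.toD X F₀ ≅ K := DerivedCategory.Q.objObjPreimageIso K
  rw [locHasFiniteRelTorDim_iff f K F₀ e₀]
  constructor
  · intro h x
    obtain ⟨V, a, b, hxV, hV⟩ := h x
    exact ⟨V, a, b, hxV, fun x' hx' => (torAtD_iff f a b F₀ K e₀ x').2 (hV x' hx')⟩
  · intro h x
    obtain ⟨V, a, b, hxV, hV⟩ := h x
    exact ⟨V, a, b, hxV, fun x' hx' => (torAtD_iff f a b F₀ K e₀ x').1 (hV x' hx')⟩

variable {f}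

theorem locTorD_of_iso {K L : DCoh.D X} (e : K ≅ L) (h : LocTorD f K) : LocTorD f L := fun x => by
  obtain ⟨V, a, b, hxV, hV⟩ := h x
  exact ⟨V, a, b, hxV, fun x' hx' => torAtD_of_iso e (hV x' hx')⟩

theorem locTorD_of_isZero {K : DCoh.D X} (hK : IsZero K) : LocTorD f K := fun x =>
  ⟨⊤, 0, 0, trivial, fun x' _ => torAtD_of_isZero hK 0 0 x'⟩

theorem locTorD_shift {K : DCoh.D X} (h : LocTorD f K) (n : ℤ) : LocTorD f (K⟦n⟧) := fun x => by
  obtain ⟨V, a, b, hxV, hV⟩ := h x
  exact ⟨V, a - n, b - n, hxV, fun x' hx' => torAtD_shift (hV x' hx') n⟩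

theorem locTorD_ext (T : Triangle (DCoh.D X)) (hT : T ∈ distTriang _)
    (h1 : LocTorD f T.obj₁) (h3 : LocTorD f T.obj₃) : LocTorD f T.obj₂ := fun x => by
  obtain ⟨V, a, b, hxV, hV⟩ := h1 x
  obtain ⟨V', a', b', hxV', hV'⟩ := h3 x
  refine ⟨V ⊓ V', min a a', max b b', ⟨hxV, hxV'⟩, fun x' hx' => ?_⟩
  exact torAtD_ext T hT
    (torAtD_mono (hV x' hx'.1) (min_le_left _ _) (le_max_left _ _))
    (torAtD_mono (hV' x' hx'.2) (min_le_right _ _) (le_max_right _ _))

theorem locTorD_of_biprod (K L : DCoh.D X) (h : LocTorD f (K ⊞ L)) : LocTorD f K := fun x => by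
  obtain ⟨V, a, b, hxV, hV⟩ := h x
  exact ⟨V, a, b, hxV, fun x' hx' => torAtD_of_biprod K L (hV x' hx')⟩

/-- a retract in `D(O_X)` is a direct summand -/
theorem exists_biprod_of_retract {K L : DCoh.D X} (r : Retract K L) :
    ∃ Z : DCoh.D X, Nonempty (L ≅ K ⊞ Z) := by
  obtain ⟨Z, g, h, hT⟩ := Pretriangulated.distinguished_cocone_triangle r.i
  haveI : Mono r.i := (SplitMono.mk r.r r.retract).mono
  have h0 : (Triangle.mk r.i g h).mor₃ = 0 :=
    (Triangle.mk r.i g h).mor₃_eq_zero_of_mono₁ hT (inferInstanceAs (Mono r.i))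
  obtain ⟨e, -, -⟩ := Pretriangulated.exists_iso_binaryBiproduct_of_distTriang _ hT h0
  exact ⟨Z, ⟨e⟩⟩

theorem locTorD_of_retract {K L : DCoh.D X} (r : Retract K L) (h : LocTorD f L) :
    LocTorD f K := by
  obtain ⟨Z, ⟨e⟩⟩ := exists_biprod_of_retract r
  exact locTorD_of_biprod K Z (locTorD_of_iso e h)

theorem pcAll_of_retract {K L : DCoh.D X} (r : Retract K L)
    (h : ∀ m : ℤ, DCoh.IsPseudoCoherentD m L) : ∀ m : ℤ, DCoh.IsPseudoCoherentD m K := by
  obtain ⟨Z, ⟨e⟩⟩ := exists_biprod_of_retract r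
  intro m
  exact (isPC_of_isBilimit m (BinaryBiproduct.bicone K Z) (BinaryBiproduct.isBilimit K Z)
    (isPC_of_iso e (h m))).1

variable (f)

/-- **S7250 in lib form** -/
theorem relPerfect_isTriangulated [Flat f] :
    ObjectProperty.IsTriangulated (fun E : DCoh.D X =>
      (∀ m : ℤ, DCoh.IsPseudoCoherentD m E) ∧ DCoh.LocHasFiniteRelTorDim f E) ∧
    ObjectProperty.IsStableUnderRetracts (fun E : DCoh.D X =>
      (∀ m : ℤ, DCoh.IsPseudoCoherentD m E) ∧ DCoh.LocHasFiniteRelTorDim f E) := by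
  constructor
  · have hz : ObjectProperty.ContainsZero (C := DCoh.D X) (fun E =>
        (∀ m : ℤ, DCoh.IsPseudoCoherentD m E) ∧ DCoh.LocHasFiniteRelTorDim f E) :=
      ⟨0, isZero_zero _, fun m => Groth.Agent.Lib.Helper5.ClPush.isPC_of_isZero (isZero_zero _) m,
        (locTorD_iff f _).2 (locTorD_of_isZero (isZero_zero _))⟩
    have hs : ObjectProperty.IsStableUnderShift (C := DCoh.D X) (fun E =>
        (∀ m : ℤ, DCoh.IsPseudoCoherentD m E) ∧ DCoh.LocHasFiniteRelTorDim f E) ℤ := by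
      refine ⟨fun n => ⟨fun K hK => ?_⟩⟩
      exact ⟨fun m => isPC_shift (hK.1 (n + m)) n m rfl,
        (locTorD_iff f _).2 (locTorD_shift ((locTorD_iff f K).1 hK.2) n)⟩
    have ht : ObjectProperty.IsTriangulatedClosed₂ (C := DCoh.D X) (fun E =>
        (∀ m : ℤ, DCoh.IsPseudoCoherentD m E) ∧ DCoh.LocHasFiniteRelTorDim f E) := by
      refine ⟨fun T hT h1 h3 => ObjectProperty.le_isoClosure _ _ ?_⟩
      exact ⟨fun m => (isPC_triangle m T hT).2.1 (h1.1 m) (h3.1 m),
        (locTorD_iff f _).2 (locTorD_ext T hT ((locTorD_iff f _).1 h1.2)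
          ((locTorD_iff f _).1 h3.2))⟩
    exact { toContainsZero := hz, toIsStableUnderShift := hs, toIsTriangulatedClosed₂ := ht }
  · exact ⟨fun {K L} r hL => ⟨pcAll_of_retract r hL.1,
      (locTorD_iff f _).2 (locTorD_of_retract r ((locTorD_iff f _).1 hL.2))⟩⟩

/-- **S7264 in lib form** -/
theorem relPerfect_tildeD_iff (R A : Type u) [CommRing R] [CommRing A] [Algebra R A]
    [Module.Flat R A] [PreservesFiniteLimits (tilde.functor (CommRingCat.of A))]
    (M : Dual.D A) :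
    ((∀ m : ℤ, DCoh.IsPseudoCoherentD m ((DCoh.tildeD (CommRingCat.of A)).obj M)) ∧
      DCoh.LocHasFiniteRelTorDim (Spec.map (CommRingCat.ofHom (algebraMap R A)))
        ((DCoh.tildeD (CommRingCat.of A)).obj M)) ↔
    Dual2.IsRelPerfect R A M := by
  haveI : Flat (Spec.map (CommRingCat.ofHom (algebraMap R A))) := by
    rw [Flat.SpecMap_iff]
    exact RingHom.flat_algebraMap_iff.2 inferInstance
  let F₀ : CochainComplex (Spec (CommRingCat.of A)).Modules ℤ :=
    DerivedCategory.Q.objPreimage ((DCoh.tildeD (CommRingCat.of A)).obj M)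
  have e₀ : DCoh.toD (Spec (CommRingCat.of A)) F₀ ≅ (DCoh.tildeD (CommRingCat.of A)).obj M :=
    DerivedCategory.Q.objObjPreimageIso _
  have hpc : (∀ m : ℤ, DCoh.IsPseudoCoherentD m ((DCoh.tildeD (CommRingCat.of A)).obj M)) ↔
      DRing.IsPseudoCoherent' A M := by
    rw [← (Groth.Agent.Helper5.PCBuild.s2066 M).1]
    exact forall_congr' (fun m =>
      Groth.Agent.Lib.Helper5.TildePC.isPseudoCoherentD_tildeD_iff (CommRingCat.of A) M m)
  have htor : DCoh.LocHasFiniteRelTorDim (Spec.map (CommRingCat.ofHom (algebraMap R A)))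
        ((DCoh.tildeD (CommRingCat.of A)).obj M) ↔
      DRing.HasFiniteTorDimCx R ((DRing.restrictD (algebraMap R A)).obj M) := by
    rw [locHasFiniteRelTorDim_iff _ _ F₀ e₀]
    constructor
    · intro h
      unfold DerSch.LocFiniteTorAmplitude at h
      choose V a b hxV hV using h
      obtain ⟨t, ht⟩ := isCompact_univ.elim_finite_subcover
        (fun x => ((V x : (Spec (CommRingCat.of A)).Opens) : Set (Spec (CommRingCat.of A))))
        (fun x => (V x).isOpen) (fun x _ => Set.mem_iUnion.2 ⟨x, hxV x⟩)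
      obtain ⟨N, hN⟩ : ∃ N : ℕ, ∀ y ∈ t, max (a y).natAbs (b y).natAbs ≤ N :=
        ⟨t.sup (fun x => max (a x).natAbs (b x).natAbs), fun y hy =>
          Finset.le_sup (f := fun x => max (a x).natAbs (b x).natAbs) hy⟩
      refine ⟨-(N : ℤ), (N : ℤ), ?_⟩
      rw [← hasTorAmplitude_iff_of_tildeD (algebraMap R A) M F₀ ⟨e₀⟩]
      intro x
      obtain ⟨y, hyt, hxy⟩ := Set.mem_iUnion₂.1 (ht (Set.mem_univ x))
      have hNy := hN y hyt
      exact hasTorAmplitudeIn_mono (hV y x hxy) (by omega) (by omega)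
    · rintro ⟨a, b, h⟩
      have h' := (hasTorAmplitude_iff_of_tildeD (algebraMap R A) M F₀ ⟨e₀⟩ a b).2 h
      exact fun x => ⟨⊤, a, b, trivial, fun x' _ => h' x'⟩
  unfold Dual2.IsRelPerfect
  rw [hpc, htor]

end Groth.Agent.Lib.Helper5.RelTor
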