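import Mathlib
import Groth.Agent.Lib.Helper5.RelTor.Tri
import Groth.Agent.Lib.Helper5.RelPerfTen.FlatRes
import Groth.Agent.Lib.Helper5.RelPC.AffComm
import Groth.Agent.Lib.Helper5.RelPC.ChartLoc
import Groth.Agent.Lib.Helper5.FinPC.IsoSq
import Groth.Agent.Lib.Helper5.Perf.PerfTri
import Groth.Agent.Lib.Helper5.TensorAmp.TensorAmpF

/-!
# Relative perfection is detected on affine charts (helper5)
-/
set_option autoImplicit false
set_option linter.unusedSectionVars false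
set_option linter.unusedVariables false
set_option linter.style.haveILetI false
universe u
open CategoryTheory CategoryTheory.Limits MonoidalCategory AlgebraicGeometry Pretriangulated
  ZeroObject
attribute [local instance] HasDerivedCategory.standard

namespace Groth.Agent.Lib.Helper5.RelTor

open Groth.Agent.Lib.Helper5.StalkTot Groth.Agent.Lib.Helper5.StalkAdj
open Groth.Agent.Helper5.TorAmp Groth.Agent.Lib.Helper5.TensorAmp
open Groth.Agent.Lib.Helper5.DerSchTor Groth.Agent.Lib.Helper5.RelPerfTen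
open Groth.Agent.Lib.Helper5.LocNull Groth.Agent.Lib.Helper5.PerfTri
open Groth.Agent.Lib.Helper5.AffComm Groth.Agent.Lib.Helper5.IsoSq
open Groth.Agent.Lib.Helper5.CPMoves Groth.Agent.Lib.Helper5.PCTri
open DTen

section Ring

variable {B B' : Type u} [CommRing B] [CommRing B']

/-- tor amplitude over `B'` gives tor amplitude over `B` of the restriction along a bijective
ring map `B → B'` -/
theorem hasTorAmplitudeIn_resCx_of_bijective (β : B →+* B') (hβ : Function.Bijective β)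
    (L : DRing.Cx B') (a b : ℤ) (h : DRing.HasTorAmplitudeIn B' a b (DRing.toD L)) :
    DRing.HasTorAmplitudeIn B a b (DRing.toD ((resCx β).obj L)) := by
  let eq : B ≃+* B' := RingEquiv.ofBijective β hβ
  let σ : B' →+* B := eq.symm.toRingHom
  have hσ : Function.Bijective σ := eq.symm.bijective
  have hcomp : β.comp σ = RingHom.id B' := by
    ext t
    exact eq.apply_symm_apply t
  apply hasTorAmplitudeIn_of_resCx_bijective σ hσ ((resCx β).obj L) a b
  exact hasTorAmplitudeIn_of_iso (DerivedCategory.Q.mapIso (resResIso β σ hcomp L)).symm h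

end Ring

variable {X Y : Scheme.{u}}

/-- tor amplitude relative to `f'` gives tor amplitude relative to `f' ≫ j` for an open
immersion `j` -/
theorem hasTorAmplitudeAt_comp_openImmersion {U' V' : Scheme.{u}} (f' : U' ⟶ V') (j : V' ⟶ Y)
    [IsOpenImmersion j] (x : U') (K : CochainComplex U'.Modules ℤ) (a b : ℤ)
    (h : DerSch.HasTorAmplitudeAt f' a b K x) : DerSch.HasTorAmplitudeAt (f' ≫ j) a b K x := by
  rw [hasTorAmplitudeAt_iff] at h ⊢
  have hbij : Function.Bijective (j.stalkMap (f'.base x)).hom :=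
    (ConcreteCategory.isIso_iff_bijective _).1 inferInstance
  have h2 := hasTorAmplitudeIn_resCx_of_bijective (j.stalkMap (f'.base x)).hom hbij _ a b h
  exact hasTorAmplitudeIn_of_iso
    (DerivedCategory.Q.mapIso (resCompIso f' j x (stalkCx U' x K))).symm h2

/-- converse of `hasTorAmplitudeAt_rcx` -/
theorem hasTorAmplitudeAt_of_rcx (f : X ⟶ Y) {U : Scheme.{u}} (j : U ⟶ X) [IsOpenImmersion j]
    (x' : U) (F : CochainComplex X.Modules ℤ) (a b : ℤ)
    (hF : DerSch.HasTorAmplitudeAt (j ≫ f) a b ((RCx j).obj F) x') :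
    DerSch.HasTorAmplitudeAt f a b F (j.base x') := by
  rw [hasTorAmplitudeAt_iff] at hF ⊢
  have hbij : Function.Bijective (j.stalkMap x').hom :=
    (ConcreteCategory.isIso_iff_bijective _).1 inferInstance
  haveI := isIso_unitCx_of_bijective (j.stalkMap x').hom hbij (stalkCx X (j.base x') F)
  have e1 : (resCx (j.stalkMap x').hom).obj
      (stalkCx U x' ((RCx j).obj F)) ≅ stalkCx X (j.base x') F :=
    (resCx (j.stalkMap x').hom).mapIso (stalkCxRCxIso j x' F) ≪≫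
      (asIso ((unitCx (j.stalkMap x').hom).app (stalkCx X (j.base x') F))).symm
  have e2 := resCompIso j f x' (stalkCx U x' ((RCx j).obj F)) ≪≫
    (resCx (f.stalkMap (j.base x')).hom).mapIso e1
  exact hasTorAmplitudeIn_of_iso (DerivedCategory.Q.mapIso e2) hF

/-- `relPerfect_tildeD_iff` for a morphism of `CommRingCat` -/
theorem relPerfect_tildeD_iff' {R A : CommRingCat.{u}} (φ : R ⟶ A) (hφ : φ.hom.Flat)
    [PreservesFiniteLimits (tilde.functor A)] (M : DerivedCategory (ModuleCat.{u} A)) :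
    ((∀ m : ℤ, DCoh.IsPseudoCoherentD m ((DCoh.tildeD A).obj M)) ∧
      DCoh.LocHasFiniteRelTorDim (Spec.map φ) ((DCoh.tildeD A).obj M)) ↔
    @Dual2.IsRelPerfect R A _ _ φ.hom.toAlgebra M := by
  letI : Algebra R A := φ.hom.toAlgebra
  haveI : Module.Flat R A := hφ
  exact relPerfect_tildeD_iff R A M

section Aff

variable {X S : Scheme.{u}} (f : X ⟶ S) {U : X.Opens} (hU : IsAffineOpen U) {V : S.Opens}
  (hV : IsAffineOpen V) (hUV : U ≤ f ⁻¹ᵁ V)

include hV in
/-- stalkwise tor amplitude on an affine chart -/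
theorem hasTorAmplitudeAt_fromSpec_iff (F : CochainComplex X.Modules ℤ) (a b : ℤ)
    (x' : Spec Γ(X, U)) :
    DerSch.HasTorAmplitudeAt f a b F (hU.fromSpec.base x') ↔
      DerSch.HasTorAmplitudeAt (Spec.map (f.appLE V U hUV)) a b
        ((RCx hU.fromSpec).obj F) x' := by
  have hsq : Spec.map (f.appLE V U hUV) ≫ hV.fromSpec = hU.fromSpec ≫ f :=
    IsAffineOpen.SpecMap_appLE_fromSpec f hV hU hUV
  constructor
  · intro h
    have h1 := hasTorAmplitudeAt_rcx f hU.fromSpec x' F a b h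
    rw [← hsq] at h1
    exact hasTorAmplitudeAt_of_comp_openImmersion _ hV.fromSpec x' _ a b h1
  · intro h
    have h1 := hasTorAmplitudeAt_comp_openImmersion _ hV.fromSpec x' _ a b h
    rw [hsq] at h1
    exact hasTorAmplitudeAt_of_rcx f hU.fromSpec x' F a b h1

/-- the restriction of `E` to `Spec Γ(X, U)` in two steps -/
noncomputable def resTwoIso (E : DCoh.D X) :
    (DCoh.restrictD hU.isoSpec.inv).obj ((DCoh.restrictD U.ι).obj E) ≅
      (DCoh.restrictD hU.fromSpec).obj E :=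
  (restrictDCompObjIso hU.isoSpec.inv U.ι E).symm

include hV in
/-- a relatively perfect object is algebraically perfect on every affine chart -/
theorem relPerfect_affine_of_relPerfect [Flat f] (E : DCoh.D X)
    (hpc : ∀ m : ℤ, DCoh.IsPseudoCoherentD m E) (htor : DCoh.LocHasFiniteRelTorDim f E)
    [PreservesFiniteLimits (tilde.functor Γ(X, U))]
    (M : DerivedCategory (ModuleCat.{u} Γ(X, U)))
    (eM : (DCoh.restrictD hU.isoSpec.inv).obj ((DCoh.restrictD U.ι).obj E) ≅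
      (DCoh.tildeD Γ(X, U)).obj M) :
    @Dual2.IsRelPerfect Γ(S, V) Γ(X, U) _ _ (f.appLE V U hUV).hom.toAlgebra M := by
  apply (relPerfect_tildeD_iff' (f.appLE V U hUV) (Flat.flat_appLE f hV hU hUV) M).1
  haveI : Flat (Spec.map (f.appLE V U hUV)) :=
    Flat.SpecMap_iff.2 (Flat.flat_appLE f hV hU hUV)
  let F₀ : CochainComplex X.Modules ℤ := DerivedCategory.Q.objPreimage E
  have e₀ : DCoh.toD X F₀ ≅ E := DerivedCategory.Q.objObjPreimageIso E
  have eR : (DCoh.restrictD hU.fromSpec).obj E ≅ (DCoh.tildeD Γ(X, U)).obj M :=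
    (resTwoIso hU E).symm ≪≫ eM
  refine ⟨fun m => isPC_of_iso eR (isPC_restrictD hU.fromSpec (hpc m)), ?_⟩
  have e₁ : DCoh.toD _ ((RCx hU.fromSpec).obj F₀) ≅ (DCoh.tildeD Γ(X, U)).obj M :=
    ((Scheme.Modules.restrictFunctor hU.fromSpec).mapDerivedCategoryFactors.app F₀).symm ≪≫
      (DCoh.restrictD hU.fromSpec).mapIso e₀ ≪≫ eR
  rw [locHasFiniteRelTorDim_iff _ _ _ e₁]
  intro x'
  obtain ⟨W, a, b, hxW, hW⟩ :=
    (locHasFiniteRelTorDim_iff f E F₀ e₀).1 htor (hU.fromSpec.base x')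
  refine ⟨hU.fromSpec ⁻¹ᵁ W, a, b, hxW, fun x'' hx'' => ?_⟩
  exact (hasTorAmplitudeAt_fromSpec_iff f hU hV hUV F₀ a b x'').1 (hW _ hx'')

end Aff

/-- an object with quasi-coherent cohomology which is algebraically perfect on enough affine
charts is relatively perfect -/
theorem relPerfect_of_affine_cover {X S : Scheme.{u}} (f : X ⟶ S) [Flat f]
    [∀ R : CommRingCat.{u}, PreservesFiniteLimits (tilde.functor R)]
    (E : DCoh.D X) (hE : DCoh.IsQCohD E)
    (H : ∀ x : X, ∃ (U : X.Opens) (V : S.Opens) (hU : IsAffineOpen U) (hV : IsAffineOpen V)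
      (hUV : U ≤ f ⁻¹ᵁ V), x ∈ U ∧
      ∀ M : DerivedCategory (ModuleCat.{u} Γ(X, U)),
        Nonempty ((DCoh.restrictD hU.isoSpec.inv).obj ((DCoh.restrictD U.ι).obj E) ≅
          (DCoh.tildeD Γ(X, U)).obj M) →
          @Dual2.IsRelPerfect Γ(S, V) Γ(X, U) _ _ (f.appLE V U hUV).hom.toAlgebra M) :
    (∀ m : ℤ, DCoh.IsPseudoCoherentD m E) ∧ DCoh.LocHasFiniteRelTorDim f E := by
  let F₀ : CochainComplex X.Modules ℤ := DerivedCategory.Q.objPreimage E
  have e₀ : DCoh.toD X F₀ ≅ E := DerivedCategory.Q.objObjPreimageIso E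
  have key : ∀ x : X, ∃ (U : X.Opens) (V : S.Opens) (hU : IsAffineOpen U)
      (hV : IsAffineOpen V) (hUV : U ≤ f ⁻¹ᵁ V), x ∈ U ∧
      (∀ m : ℤ, DCoh.IsPseudoCoherentD m ((DCoh.restrictD hU.fromSpec).obj E)) ∧
      DerSch.LocFiniteTorAmplitude (Spec.map (f.appLE V U hUV))
        ((RCx hU.fromSpec).obj F₀) := by
    intro x
    obtain ⟨U, V, hU, hV, hUV, hxU, HM⟩ := H x
    obtain ⟨M, ⟨eM⟩⟩ := exists_tilde E hE hU
    have hM := HM M ⟨resTwoIso hU E ≪≫ eM.symm⟩
    obtain ⟨hpcM, htorM⟩ :=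
      (relPerfect_tildeD_iff' (f.appLE V U hUV) (Flat.flat_appLE f hV hU hUV) M).2 hM
    haveI : Flat (Spec.map (f.appLE V U hUV)) :=
      Flat.SpecMap_iff.2 (Flat.flat_appLE f hV hU hUV)
    have e₁ : DCoh.toD _ ((RCx hU.fromSpec).obj F₀) ≅ (DCoh.tildeD Γ(X, U)).obj M :=
      ((Scheme.Modules.restrictFunctor hU.fromSpec).mapDerivedCategoryFactors.app F₀).symm ≪≫
        (DCoh.restrictD hU.fromSpec).mapIso e₀ ≪≫ eM.symm
    exact ⟨U, V, hU, hV, hUV, hxU, fun m => isPC_of_iso eM (hpcM m),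
      (locHasFiniteRelTorDim_iff _ _ _ e₁).1 htorM⟩
  constructor
  · intro m
    apply isPC_local'
    intro x
    obtain ⟨U, V, hU, hV, hUV, hxU, hpcU, -⟩ := key x
    exact ⟨_, hU.fromSpec, inferInstance, by rw [hU.range_fromSpec]; exact hxU, hpcU m⟩
  · rw [locHasFiniteRelTorDim_iff f E F₀ e₀]
    intro x
    obtain ⟨U, V, hU, hV, hUV, hxU, -, htorU⟩ := key x
    have hx : x ∈ Set.range hU.fromSpec := by rw [hU.range_fromSpec]; exact hxU
    obtain ⟨x', rfl⟩ := hx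
    obtain ⟨W', a, b, hxW', hW'⟩ := htorU x'
    have hmem : hU.fromSpec x' ∈ hU.fromSpec ''ᵁ W' := by
      show hU.fromSpec x' ∈ ((hU.fromSpec ''ᵁ W' : X.Opens) : Set X)
      rw [Scheme.Hom.coe_image]
      exact ⟨x', hxW', rfl⟩
    refine ⟨hU.fromSpec ''ᵁ W', a, b, hmem, ?_⟩
    intro x₂ hx₂
    have hx₂' : x₂ ∈ ((hU.fromSpec ''ᵁ W' : X.Opens) : Set X) := hx₂
    rw [Scheme.Hom.coe_image] at hx₂'
    obtain ⟨w, hw, rfl⟩ := hx₂'
    exact (hasTorAmplitudeAt_fromSpec_iff f hU hV hUV F₀ a b w).2 (hW' w hw)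

/-- **S7278 in lib form** -/
theorem relPerfect_iff_affine {X S : Scheme.{u}} (f : X ⟶ S) [Flat f]
    [∀ R : CommRingCat.{u}, PreservesFiniteLimits (tilde.functor R)]
    (E : DCoh.D X) (hE : DCoh.IsQCohD E) :
    (((∀ m : ℤ, DCoh.IsPseudoCoherentD m E) ∧ DCoh.LocHasFiniteRelTorDim f E) ↔
      ∀ (U : X.Opens) (hU : IsAffineOpen U) (V : S.Opens) (hV : IsAffineOpen V)
        (hUV : U ≤ f ⁻¹ᵁ V) (M : DerivedCategory (ModuleCat.{u} Γ(X, U))),
        Nonempty ((DCoh.restrictD hU.isoSpec.inv).obj ((DCoh.restrictD U.ι).obj E) ≅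
          (DCoh.tildeD Γ(X, U)).obj M) →
          @Dual2.IsRelPerfect Γ(S, V) Γ(X, U) _ _ (f.appLE V U hUV).hom.toAlgebra M) ∧
    (∀ (ι : Type u) (V : ι → S.Opens) (hV : ∀ i, IsAffineOpen (V i)) (hVcov : ⨆ i, V i = ⊤)
        (κ : ι → Type u) (U : ∀ i, κ i → X.Opens) (hU : ∀ i j, IsAffineOpen (U i j))
        (hUV : ∀ i j, U i j ≤ f ⁻¹ᵁ V i) (hUcov : ∀ i, ⨆ j, U i j = f ⁻¹ᵁ V i),
        (∀ (i : ι) (j : κ i) (M : DerivedCategory (ModuleCat.{u} Γ(X, U i j))),
          Nonempty ((DCoh.restrictD (hU i j).isoSpec.inv).obj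
              ((DCoh.restrictD (U i j).ι).obj E) ≅ (DCoh.tildeD Γ(X, U i j)).obj M) →
            @Dual2.IsRelPerfect Γ(S, V i) Γ(X, U i j) _ _
              (f.appLE (V i) (U i j) (hUV i j)).hom.toAlgebra M) →
        (∀ m : ℤ, DCoh.IsPseudoCoherentD m E) ∧ DCoh.LocHasFiniteRelTorDim f E) := by
  refine ⟨⟨?_, ?_⟩, ?_⟩
  · rintro ⟨hpc, htor⟩ U hU V hV hUV M ⟨eM⟩
    exact relPerfect_affine_of_relPerfect f hU hV hUV E hpc htor M eM
  · intro H
    apply relPerfect_of_affine_cover f E hE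
    intro x
    obtain ⟨_, ⟨V, hV, rfl⟩, hfxV, -⟩ := S.isBasis_affineOpens.exists_subset_of_mem_open
      (Set.mem_univ (f.base x)) isOpen_univ
    obtain ⟨_, ⟨U, hU, rfl⟩, hxU, hUle⟩ := X.isBasis_affineOpens.exists_subset_of_mem_open
      (show x ∈ ((f ⁻¹ᵁ V : X.Opens) : Set X) from hfxV) (f ⁻¹ᵁ V).isOpen
    exact ⟨U, V, hU, hV, hUle, hxU, H U hU V hV hUle⟩
  · intro ι V hV hVcov κ U hU hUV hUcov H
    apply relPerfect_of_affine_cover f E hE
    intro x
    have h1 : f.base x ∈ (⨆ i, V i) := by rw [hVcov]; trivial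
    obtain ⟨i, hi⟩ := TopologicalSpace.Opens.mem_iSup.1 h1
    have h2 : x ∈ f ⁻¹ᵁ V i := hi
    rw [← hUcov i] at h2
    obtain ⟨j, hj⟩ := TopologicalSpace.Opens.mem_iSup.1 h2
    exact ⟨U i j, V i, hU i j, hV i, hUV i j, hj, H i j⟩

end Groth.Agent.Lib.Helper5.RelTor
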